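import Mathlib

/-!
Inverse limits of thickening systems and adic completeness.
-/

namespace Groth.Agent.AdicLim

universe u v w

variable {A : Type u} [CommRing A]

/-- Elements of `(g_1, …, g_r) • N`, written with the generators. -/
theorem exists_sum_of_mem_span_smul {L : Type w} [AddCommGroup L] [Module A L] {r : ℕ}
    {g : Fin r → A} {N : Submodule A L} {z : L} (hz : z ∈ Ideal.span (Set.range g) • N) :
    ∃ s : Fin r → L, (∀ i, s i ∈ N) ∧ ∑ i, g i • s i = z := by
  refine Submodule.smul_induction_on hz ?_ ?_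
  · intro a ha m hm
    obtain ⟨c, rfl⟩ := Ideal.mem_span_range_iff_exists_fun.1 ha
    refine ⟨fun i => c i • m, fun i => N.smul_mem _ hm, ?_⟩
    rw [Finset.sum_smul]
    exact Finset.sum_congr rfl fun i _ => by rw [smul_smul, mul_comm]
  · rintro x y ⟨s, hs, rfl⟩ ⟨t, ht, rfl⟩
    exact ⟨s + t, fun i => add_mem (hs i) (ht i), by simp [smul_add, Finset.sum_add_distrib]⟩

/-- Components of an element of `J • ⊤` in a finite power of the ring. -/
theorem apply_mem_of_mem_smul_top {ι : Type*} {J : Ideal A} {s : ι → A}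
    (hs : s ∈ J • (⊤ : Submodule A (ι → A))) (i : ι) : s i ∈ J := by
  refine Submodule.smul_induction_on hs (fun a ha m _ => ?_) (fun x y hx hy => ?_)
  · exact J.mul_mem_right _ ha
  · exact add_mem hx hy

/-- In a finite power of the ring, membership in `J • ⊤` is checked on components. -/
theorem mem_smul_top_of_apply {ι : Type*} [Finite ι] {J : Ideal A} {s : ι → A}
    (hs : ∀ i, s i ∈ J) : s ∈ J • (⊤ : Submodule A (ι → A)) := by
  classical
  cases nonempty_fintype ι
  rw [← Finset.univ_sum_single s]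
  refine sum_mem fun i _ => ?_
  rw [show Pi.single i (s i) = s i • (Pi.single i (1 : A) : ι → A) by
    ext j; simp [Pi.single_apply]]
  exact Submodule.smul_mem_smul (hs i) Submodule.mem_top

/-- A linear map from a retract of `(A ⧸ J)^m` lifts along surjections from modules killed by `J`. -/
theorem exists_lift_of_retract {J : Ideal A} {P X Y : Type*} [AddCommGroup P] [Module A P]
    [AddCommGroup X] [Module A X] [AddCommGroup Y] [Module A Y]
    (hP : ∃ (m : ℕ) (i : P →ₗ[A] (Fin m → A ⧸ J)) (r : (Fin m → A ⧸ J) →ₗ[A] P),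
      r ∘ₗ i = LinearMap.id)
    (hX : ∀ a ∈ J, ∀ x : X, a • x = 0) (g : X →ₗ[A] Y) (hg : Function.Surjective g)
    (d : P →ₗ[A] Y) : ∃ d' : P →ₗ[A] X, g ∘ₗ d' = d := by
  classical
  obtain ⟨m, i, r, hri⟩ := hP
  choose x hx using fun j => hg (d (r (Pi.single j 1)))
  let ℓ : Fin m → ((A ⧸ J) →ₗ[A] X) := fun j =>
    Submodule.liftQ J (LinearMap.toSpanSingleton A X (x j)) fun a ha => hX a ha _
  let D : (Fin m → A ⧸ J) →ₗ[A] X := ∑ j, ℓ j ∘ₗ LinearMap.proj j
  have hD : g ∘ₗ D = d ∘ₗ r := by
    refine LinearMap.pi_ext fun j c => ?_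
    obtain ⟨a, rfl⟩ := Ideal.Quotient.mk_surjective c
    have e : (Pi.single j (Ideal.Quotient.mk J a) : Fin m → A ⧸ J) = a • Pi.single j 1 := by
      rw [← Pi.single_smul']
      congr 1
      simp [Algebra.smul_def]
    rw [e, LinearMap.comp_apply, LinearMap.comp_apply, map_smul, map_smul, map_smul, map_smul, ← hx]
    congr 2
    simp only [D, LinearMap.coe_sum, Finset.sum_apply, LinearMap.comp_apply, LinearMap.proj_apply]
    rw [Finset.sum_eq_single j]
    · rw [Pi.single_eq_same]
      exact one_smul A (x j)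
    · intro k _ hk
      rw [Pi.single_eq_of_ne hk, map_zero]
    · simp
  exact ⟨D ∘ₗ i, by rw [← LinearMap.comp_assoc, hD, LinearMap.comp_assoc, hri, LinearMap.comp_id]⟩

/-- A complete separated filtration which is generated by the powers of `I` step by step. -/
structure IsStepFiltration (I : Ideal A) {L : Type w} [AddCommGroup L] [Module A L]
    (F : ℕ → Submodule A L) : Prop where
  zero : F 0 = ⊤
  anti : Antitone F
  pow_le : ∀ k, I ^ k • (⊤ : Submodule A L) ≤ F k
  step : ∀ k, F k ≤ I ^ k • (⊤ : Submodule A L) ⊔ F (k + 1)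
  separated : ∀ x, (∀ k, x ∈ F k) → x = 0
  series : ∀ s : ℕ → L, (∀ k, s k ∈ F k) → ∃ y, ∀ K, y - ∑ k ∈ Finset.range K, s k ∈ F K

namespace IsStepFiltration

variable {I : Ideal A} {L : Type w} [AddCommGroup L] [Module A L] {F : ℕ → Submodule A L}
  (h : IsStepFiltration I F)
include h

theorem eq_pow_smul_of_fg (hI : I.FG) (n : ℕ) : F n = I ^ n • (⊤ : Submodule A L) := by
  refine le_antisymm (fun x hx => ?_) (h.pow_le n)
  obtain ⟨r, g, hg⟩ := Submodule.fg_iff_exists_fin_generating_family.1
    (Submodule.FG.pow hI n : (I ^ n).FG)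
  have hg' : Ideal.span (Set.range g) = I ^ n := hg
  have next_ : ∀ k, ∀ d ∈ F (n + k), ∃ s : Fin r → L,
      (∀ i, s i ∈ F k) ∧ d - ∑ i, g i • s i ∈ F (n + (k + 1)) := by
    intro k d hd
    obtain ⟨a, ha, b, hb, rfl⟩ := Submodule.mem_sup.1 (h.step (n + k) hd)
    rw [pow_add, Submodule.mul_smul, ← hg'] at ha
    obtain ⟨s, hs, rfl⟩ := exists_sum_of_mem_span_smul ha
    exact ⟨s, fun i => h.pow_le k (hs i), by simpa [← add_assoc] using hb⟩
  choose s hs hs' using next_
  let d : ∀ k, F (n + k) := fun k => Nat.rec (motive := fun k => F (n + k)) ⟨x, hx⟩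
    (fun k a => ⟨_, hs' k a a.2⟩) k
  let t : Fin r → ℕ → L := fun i k => s k (d k) (d k).2 i
  have hd : ∀ k, (d k : L) = x - ∑ j ∈ Finset.range k, ∑ i, g i • t i j := by
    intro k
    induction k with
    | zero => simp [d]
    | succ k ih =>
      rw [Finset.sum_range_succ, ← sub_sub, ← ih]
  choose y hy using fun i => h.series (t i) (fun k => hs k (d k) (d k).2 i)
  have hxy : x = ∑ i, g i • y i := by
    rw [← sub_eq_zero]
    refine h.separated _ fun K => ?_
    have e : x - ∑ i, g i • y i
        = (d K : L) - ∑ i, g i • (y i - ∑ j ∈ Finset.range K, t i j) := by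
      rw [hd K]
      simp only [smul_sub, Finset.smul_sum, Finset.sum_sub_distrib]
      rw [Finset.sum_comm (s := Finset.range K)]
      abel
    rw [e]
    exact sub_mem (h.anti (Nat.le_add_left K n) (d K).2)
      (sum_mem fun i _ => Submodule.smul_mem _ _ (hy i K))
  rw [hxy, ← hg']
  exact sum_mem fun i _ =>
    Submodule.smul_mem_smul (Submodule.subset_span ⟨i, rfl⟩) Submodule.mem_top

theorem isAdicComplete (heq : ∀ n, F n = I ^ n • (⊤ : Submodule A L)) : IsAdicComplete I L where
  haus' x hx := h.separated x fun k => by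
    have := hx k
    rw [SModEq.zero] at this
    rwa [heq]
  prec' f hf := by
    have hs : ∀ k, f (k + 1) - f k ∈ F k := fun k => by
      rw [heq, ← SModEq.sub_mem]
      exact (hf (Nat.le_succ k)).symm
    obtain ⟨y, hy⟩ := h.series _ hs
    refine ⟨y + f 0, fun n => ?_⟩
    rw [SModEq.sub_mem, ← heq]
    have := hy n
    rw [Finset.sum_range_sub] at this
    convert! neg_mem this using 1
    abel

/-- Iterated step. -/
theorem le_sup (n : ℕ) {m : ℕ} (hnm : n ≤ m) : F n ≤ I ^ n • (⊤ : Submodule A L) ⊔ F m := by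
  induction hnm with
  | refl => exact le_sup_right
  | @step m hm ih =>
    refine ih.trans (sup_le le_sup_left ((h.step m).trans (sup_le ?_ le_sup_right)))
    exact le_sup_of_le_left (Submodule.smul_mono (Ideal.pow_le_pow_right hm) le_rfl)

theorem pow_smul_le_one (k : ℕ) : I ^ k • F 1 ≤ F (k + 1) := by
  refine (Submodule.smul_mono le_rfl (h.le_sup 1 (Nat.le_add_left 1 k))).trans ?_
  rw [Submodule.smul_sup]
  refine sup_le ?_ Submodule.smul_le_right
  rw [← Submodule.mul_smul, ← pow_add]
  exact h.pow_le _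

/-- Over a complete ring, a map whose image generates modulo `F 1` is surjective and computes the
filtration. -/
theorem exists_preimage [IsAdicComplete I A] {r : ℕ} (φ : (Fin r → A) →ₗ[A] L)
    (hφ : LinearMap.range φ ⊔ F 1 = ⊤) (n : ℕ) {x : L} (hx : x ∈ F n) :
    ∃ c : Fin r → A, (∀ i, c i ∈ I ^ n) ∧ φ c = x := by
  have next_ : ∀ k, ∀ d ∈ F (n + k), ∃ s : Fin r → A,
      (∀ i, s i ∈ I ^ (n + k)) ∧ d - φ s ∈ F (n + (k + 1)) := by
    intro k d hd
    obtain ⟨a, ha, b, hb, rfl⟩ := Submodule.mem_sup.1 (h.step (n + k) hd)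
    rw [← hφ, Submodule.smul_sup, LinearMap.range_eq_map, ← Submodule.map_smul''] at ha
    obtain ⟨a1, ⟨s, hs, rfl⟩, a2, ha2, rfl⟩ := Submodule.mem_sup.1 ha
    refine ⟨s, fun i => ?_, ?_⟩
    · exact apply_mem_of_mem_smul_top hs i
    · have := add_mem (h.pow_smul_le_one (n + k) ha2) hb
      simpa [add_assoc] using this
  choose s hs hs' using next_
  let d : ∀ k, F (n + k) := fun k => Nat.rec (motive := fun k => F (n + k)) ⟨x, hx⟩
    (fun k a => ⟨_, hs' k a a.2⟩) k
  let t : ℕ → Fin r → A := fun k => s k (d k) (d k).2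
  let S : ℕ → Fin r → A := fun K => ∑ j ∈ Finset.range K, t j
  have hd : ∀ k, (d k : L) = x - φ (S k) := by
    intro k
    induction k with
    | zero => simp [d, S]
    | succ k ih =>
      simp only [S, Finset.sum_range_succ, map_add, ← sub_sub]
      rw [← ih]
  have hS : ∀ i K m, K ≤ m → S m i - S K i ∈ I ^ (n + K) := by
    intro i K m hKm
    induction hKm with
    | refl => simp
    | @step m hKm ih =>
      have e : S (m + 1) i - S K i = t m i + (S m i - S K i) := by
        simp only [S, Finset.sum_range_succ, Pi.add_apply]; abel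
      rw [e]
      exact add_mem (Ideal.pow_le_pow_right (Nat.add_le_add_left hKm n)
        (hs m (d m) (d m).2 i)) ih
  have hcau : ∀ i K, ∀ {m}, K ≤ m → (S K i) ≡ (S m i) [SMOD (I ^ K • ⊤ : Submodule A A)] := by
    intro i K m hKm
    rw [SModEq.sub_mem, smul_eq_mul, Ideal.mul_top, ← neg_sub]
    exact neg_mem (Ideal.pow_le_pow_right (Nat.le_add_left K n) (hS i K m hKm))
  choose c hc using fun i => IsPrecomplete.prec inferInstance (I := I) (f := fun K => S K i)
    (fun {m k} hmk => hcau i m hmk)
  have hc' : ∀ i K, S K i - c i ∈ I ^ K := fun i K => by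
    have := hc i K
    rwa [SModEq.sub_mem, smul_eq_mul, Ideal.mul_top] at this
  refine ⟨c, fun i => ?_, ?_⟩
  · have h1 : S n i ∈ I ^ n := by
      have := hS i 0 n (Nat.zero_le _)
      simpa [S] using this
    have := sub_mem h1 (hc' i n)
    simpa using this
  · rw [← sub_eq_zero]
    refine h.separated _ fun K => ?_
    have e : φ c - x = -(φ (S K - c)) - (d K : L) := by rw [hd K, map_sub]; abel
    rw [e]
    refine sub_mem (neg_mem (h.pow_le K ?_)) (h.anti (Nat.le_add_left K n) (d K).2)
    rw [← Finset.univ_sum_single (S K - c), map_sum]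
    refine sum_mem fun i _ => ?_
    rw [show Pi.single i ((S K - c) i) = (S K i - c i) • (Pi.single i (1 : A) : Fin r → A) by
      ext j; simp [Pi.single_apply], map_smul]
    exact Submodule.smul_mem_smul (hc' i K) Submodule.mem_top

end IsStepFiltration

/-- An inverse limit, presented by jointly injective projections with lifts of compatible
families. -/
structure IsLimit {M : ℕ → Type v} [∀ n, AddCommGroup (M n)] [∀ n, Module A (M n)]
    (f : ∀ n, M (n + 1) →ₗ[A] M n) {L : Type w} [AddCommGroup L] [Module A L]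
    (π : ∀ n, L →ₗ[A] M n) : Prop where
  comm : ∀ n, f n ∘ₗ π (n + 1) = π n
  inj : ∀ x : L, (∀ n, π n x = 0) → x = 0
  lift : ∀ y : (∀ n, M n), (∀ n, f n (y (n + 1)) = y n) → ∃ x : L, ∀ n, π n x = y n

namespace IsLimit

variable {M : ℕ → Type v} [∀ n, AddCommGroup (M n)] [∀ n, Module A (M n)]
  {f : ∀ n, M (n + 1) →ₗ[A] M n} {L : Type w} [AddCommGroup L] [Module A L]
  {π : ∀ n, L →ₗ[A] M n} (h : IsLimit f π)
include h

theorem comm_apply (n : ℕ) (x : L) : f n (π (n + 1) x) = π n x :=
  LinearMap.congr_fun (h.comm n) x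

theorem ker_le {n m : ℕ} (hnm : n ≤ m) : LinearMap.ker (π m) ≤ LinearMap.ker (π n) := by
  induction hnm with
  | refl => exact le_rfl
  | step _ ih =>
    refine le_trans (fun x hx => ?_) ih
    rw [LinearMap.mem_ker] at hx ⊢
    rw [← h.comm_apply, hx, map_zero]

theorem shift : IsLimit (M := fun n => M (n + 1)) (fun n => f (n + 1)) (fun n => π (n + 1)) where
  comm n := h.comm (n + 1)
  inj x hx := h.inj x fun n => by
    cases n with
    | zero => rw [← h.comm_apply, hx 0, map_zero]
    | succ n => exact hx n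
  lift y hy := by
    let z : ∀ n, M n := fun n => Nat.casesOn (motive := fun n => M n) n (f 0 (y 0)) y
    obtain ⟨x, hx⟩ := h.lift z fun n => by cases n with
      | zero => rfl
      | succ n => exact hy n
    exact ⟨x, fun n => hx (n + 1)⟩

theorem surjective_zero (hf : ∀ n, Function.Surjective (f n)) : Function.Surjective (π 0) := by
  intro y
  choose g hg using hf
  let z : ∀ m, M m := fun m => Nat.rec (motive := fun m => M m) y (fun m a => g m a) m
  obtain ⟨x, hx⟩ := h.lift z (fun m => hg m (z m))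
  exact ⟨x, hx 0⟩

omit h in
theorem surjective_aux (n : ℕ) : ∀ {M : ℕ → Type v} [∀ n, AddCommGroup (M n)] [∀ n, Module A (M n)]
    {f : ∀ n, M (n + 1) →ₗ[A] M n} {π : ∀ n, L →ₗ[A] M n},
    IsLimit f π → (∀ n, Function.Surjective (f n)) → Function.Surjective (π n) := by
  induction n with
  | zero => intro M _ _ f π h hf; exact h.surjective_zero hf
  | succ n ih => intro M _ _ f π h hf; exact ih h.shift (fun n => hf (n + 1))

theorem surjective (hf : ∀ n, Function.Surjective (f n)) (n : ℕ) : Function.Surjective (π n) :=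
  surjective_aux n h hf

/-- The filtration of the limit: `⊤`, then the kernels of the projections. -/
def filtration (π : ∀ n, L →ₗ[A] M n) : ℕ → Submodule A L
  | 0 => ⊤
  | n + 1 => LinearMap.ker (π n)

variable (I : Ideal A) (hf : ∀ n, Function.Surjective (f n))
  (hker : ∀ n, LinearMap.ker (f n) = I ^ (n + 1) • (⊤ : Submodule A (M (n + 1))))
include hf hker

theorem pow_smul_eq_bot (n : ℕ) : I ^ (n + 1) • (⊤ : Submodule A (M n)) = ⊥ := by
  have e : (⊤ : Submodule A (M n)) = Submodule.map (f n) ⊤ := by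
    rw [Submodule.map_top, LinearMap.range_eq_top.2 (hf n)]
  rw [e, ← Submodule.map_smul'', ← hker, ← LinearMap.le_ker_iff_map]

theorem isStepFiltration : IsStepFiltration I (filtration π) where
  zero := rfl
  anti := antitone_nat_of_succ_le fun k => by
    cases k with
    | zero => exact le_top
    | succ k => exact h.ker_le (Nat.le_succ k)
  pow_le k := by
    cases k with
    | zero => exact le_top
    | succ k =>
      rw [filtration, LinearMap.le_ker_iff_map, Submodule.map_smul'', ← le_bot_iff,
        ← pow_smul_eq_bot h I hf hker k]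
      exact Submodule.smul_mono le_rfl le_top
  step k := by
    cases k with
    | zero => simp
    | succ k =>
      intro x hx
      have hx' : π (k + 1) x ∈ Submodule.map (π (k + 1)) (I ^ (k + 1) • (⊤ : Submodule A L)) := by
        rw [Submodule.map_smul'', Submodule.map_top, LinearMap.range_eq_top.2 (h.surjective hf _),
          ← hker, LinearMap.mem_ker, h.comm_apply]
        exact hx
      obtain ⟨a, ha, hax⟩ := hx'
      rw [Submodule.mem_sup]
      exact ⟨a, ha, x - a, by simp [filtration, hax], by abel⟩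
  separated x hx := h.inj x fun n => hx (n + 1)
  series s hs := by
    have hy : ∀ n, f n (π (n + 1) (∑ k ∈ Finset.range (n + 2), s k))
        = π n (∑ k ∈ Finset.range (n + 1), s k) := by
      intro n
      rw [h.comm_apply, Finset.sum_range_succ, map_add, add_eq_left]
      exact hs (n + 1)
    obtain ⟨y, hy⟩ := h.lift (fun n => π n (∑ k ∈ Finset.range (n + 1), s k)) hy
    refine ⟨y, fun K => ?_⟩
    cases K with
    | zero => exact Submodule.mem_top
    | succ K => rw [filtration, LinearMap.mem_ker, map_sub, hy, sub_self]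

theorem ker_eq_of_fg (hI : I.FG) (n : ℕ) :
    LinearMap.ker (π n) = I ^ (n + 1) • (⊤ : Submodule A L) :=
  (h.isStepFiltration I hf hker).eq_pow_smul_of_fg hI (n + 1)

theorem isAdicComplete_of_ker_eq
    (heq : ∀ n, LinearMap.ker (π n) = I ^ (n + 1) • (⊤ : Submodule A L)) : IsAdicComplete I L :=
  (h.isStepFiltration I hf hker).isAdicComplete fun n => by
    cases n with
    | zero => simp [filtration]
    | succ n => exact heq n

theorem finite_and_ker_eq [IsAdicComplete I A] [Module.Finite A (M 0)] :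
    Module.Finite A L ∧ ∀ n, LinearMap.ker (π n) = I ^ (n + 1) • (⊤ : Submodule A L) := by
  have hF := h.isStepFiltration I hf hker
  obtain ⟨r, g, hg⟩ := Module.Finite.exists_fin' A (M 0)
  obtain ⟨φ, hφ⟩ := Module.projective_lifting_property (π 0) g (h.surjective_zero hf)
  have hφ' : LinearMap.range φ ⊔ filtration π 1 = ⊤ := by
    rw [eq_top_iff]
    intro x _
    obtain ⟨c, hc⟩ := hg (π 0 x)
    rw [Submodule.mem_sup]
    refine ⟨φ c, ⟨c, rfl⟩, x - φ c, ?_, by abel⟩
    have : π 0 (φ c) = g c := LinearMap.congr_fun hφ c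
    simp [filtration, this, hc]
  refine ⟨Module.Finite.of_surjective φ fun x => ?_, fun n => ?_⟩
  · obtain ⟨c, -, hc⟩ := hF.exists_preimage φ hφ' 0 (x := x) Submodule.mem_top
    exact ⟨c, hc⟩
  · refine le_antisymm (fun x hx => ?_) (hF.pow_le (n + 1))
    obtain ⟨c, hc, rfl⟩ := hF.exists_preimage φ hφ' (n + 1) hx
    rw [← Finset.univ_sum_single c, map_sum]
    refine sum_mem fun i _ => ?_
    rw [show Pi.single i (c i) = c i • (Pi.single i (1 : A) : Fin r → A) by
      ext j; simp [Pi.single_apply], map_smul]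
    exact Submodule.smul_mem_smul (hc i) Submodule.mem_top

end IsLimit

end Groth.Agent.AdicLim
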