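import Mathlib
import Groth.Agent.AdicLim.Basic

/-!
Noetherian adically complete rings and finite modules over them.
-/

namespace Groth.Agent.AdicLim

universe u v

variable {A : Type u} [CommRing A]

section Eval

variable {r : ℕ} (t : Fin r → A) {J : Ideal A}

theorem prod_pow_mem_pow (ht : ∀ i, t i ∈ J) (d : Fin r →₀ ℕ) :
    (∏ i, t i ^ d i) ∈ J ^ d.degree := by
  rw [Finsupp.degree_eq_sum, ← Finset.prod_pow_eq_pow_sum]
  exact Ideal.prod_mem_prod fun i _ => Ideal.pow_mem_pow (ht i) _

theorem eval_mem_of_isHomogeneous (ht : ∀ i, t i ∈ J) {f : MvPolynomial (Fin r) A} {n : ℕ}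
    (hf : f.IsHomogeneous n) {I : Ideal A} (hc : ∀ d, f.coeff d ∈ I) :
    MvPolynomial.eval t f ∈ I * J ^ n := by
  rw [MvPolynomial.eval_eq']
  refine sum_mem fun d hd => Ideal.mul_mem_mul (hc d) ?_
  have : d.degree = n := by
    rw [Finsupp.degree_eq_weight_one]
    exact hf (MvPolynomial.mem_support_iff.1 hd)
  exact this ▸ prod_pow_mem_pow t ht d

theorem exists_isHomogeneous_eval {T : Ideal A} (hT : T = Ideal.span (Set.range t)) (n : ℕ) :
    ∀ x ∈ T ^ n, ∃ g : MvPolynomial (Fin r) A, g.IsHomogeneous n ∧ MvPolynomial.eval t g = x := by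
  induction n with
  | zero =>
    intro x _
    exact ⟨MvPolynomial.C x, MvPolynomial.isHomogeneous_C _ _, MvPolynomial.eval_C x⟩
  | succ n ih =>
    intro x hx
    rw [pow_succ] at hx
    refine Submodule.mul_induction_on hx (fun a ha b hb => ?_) (fun a b ha hb => ?_)
    · obtain ⟨g, hg, rfl⟩ := ih a ha
      rw [hT] at hb
      obtain ⟨c, rfl⟩ := Ideal.mem_span_range_iff_exists_fun.1 hb
      refine ⟨g * ∑ i, MvPolynomial.C (c i) * MvPolynomial.X i,
        hg.mul (MvPolynomial.IsHomogeneous.sum _ _ _ fun i _ => ?_), by simp⟩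
      exact MvPolynomial.isHomogeneous_C_mul_X _ _
    · obtain ⟨g, hg, rfl⟩ := ha
      obtain ⟨g', hg', rfl⟩ := hb
      exact ⟨g + g', hg.add hg', map_add _ _ _⟩

end Eval

/-- Partial sums of a series with terms in growing powers converge in a complete ring. -/
theorem exists_series_limit {J : Ideal A} [IsAdicComplete J A] (c : ℕ → A)
    (hc : ∀ k, c k ∈ J ^ k) : ∃ y, ∀ K, y - ∑ k ∈ Finset.range K, c k ∈ J ^ K := by
  obtain ⟨y, hy⟩ := IsPrecomplete.prec inferInstance (I := J)
    (f := fun K => ∑ k ∈ Finset.range K, c k) (fun {m n} hmn => by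
      rw [SModEq.sub_mem, smul_eq_mul, Ideal.mul_top, ← neg_sub]
      refine neg_mem ?_
      rw [← Finset.sum_Ico_eq_sub _ hmn]
      exact sum_mem fun k hk => Ideal.pow_le_pow_right (Finset.mem_Ico.1 hk).1 (hc k))
  refine ⟨y, fun K => ?_⟩
  have := hy K
  rw [SModEq.sub_mem, smul_eq_mul, Ideal.mul_top] at this
  rw [← neg_sub]
  exact neg_mem this

theorem exists_step {r : ℕ} (t : Fin r → A) {J : Ideal A} (hJt : J = Ideal.span (Set.range t))
    (ht : ∀ i, t i ∈ J) {ι : Type*} [Fintype ι] (P : ι → MvPolynomial (Fin r) A) (deg : ι → ℕ)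
    (hdeg : ∀ g, (P g).IsHomogeneous (deg g)) (a : ι → A)
    (hfa : ∀ g, MvPolynomial.eval t (P g) - a g ∈ J ^ (deg g + 1)) (𝔞 : Ideal A)
    (hG : ∀ n (f : MvPolynomial (Fin r) A), f.IsHomogeneous n → MvPolynomial.eval t f ∈ 𝔞 →
      f ∈ Ideal.span (Set.range P) ⊔ J.map MvPolynomial.C)
    (n : ℕ) (x : A) (hxa : x ∈ 𝔞) (hxn : x ∈ J ^ n) :
    ∃ c : ι → A, (∀ g, c g ∈ J ^ (n - deg g)) ∧ x - ∑ g, c g * a g ∈ J ^ (n + 1) := by
  classical
  obtain ⟨f, hf, rfl⟩ := exists_isHomogeneous_eval t hJt n x hxn
  obtain ⟨p, hp, j, hj, hpj⟩ := Submodule.mem_sup.1 (hG n f hf hxa)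
  obtain ⟨h, rfl⟩ := Ideal.mem_span_range_iff_exists_fun.1 hp
  have heval : ∀ g, MvPolynomial.eval t (MvPolynomial.homogeneousComponent (n - deg g) (h g))
      ∈ J ^ (n - deg g) := by
    intro g
    have := eval_mem_of_isHomogeneous t ht
      (MvPolynomial.homogeneousComponent_isHomogeneous (n - deg g) (h g)) (I := ⊤)
      (fun d => Submodule.mem_top)
    rwa [Ideal.top_mul] at this
  have hcomp : ∀ g, MvPolynomial.homogeneousComponent n (h g * P g) = if deg g ≤ n then
      MvPolynomial.homogeneousComponent (n - deg g) (h g) * P g else 0 := by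
    intro g
    conv_lhs => rw [← MvPolynomial.sum_homogeneousComponent (h g), Finset.sum_mul, map_sum]
    have hb : ∀ b, MvPolynomial.homogeneousComponent n
        (MvPolynomial.homogeneousComponent b (h g) * P g)
        = if n = b + deg g then MvPolynomial.homogeneousComponent b (h g) * P g else 0 := fun b =>
      MvPolynomial.homogeneousComponent_of_mem
        ((MvPolynomial.homogeneousComponent_isHomogeneous b (h g)).mul (hdeg g))
    simp only [hb]
    split_ifs with hg
    · rw [Finset.sum_eq_single (n - deg g)]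
      · rw [if_pos (by omega)]
      · intro b _ hb
        rw [if_neg (by omega)]
      · intro hb'
        rw [MvPolynomial.homogeneousComponent_eq_zero _ _ (by simp at hb'; omega), zero_mul,
          if_pos (by omega)]
    · exact Finset.sum_eq_zero fun b _ => if_neg (by omega)
  have hfeq : f = ∑ g, MvPolynomial.homogeneousComponent n (h g * P g)
      + MvPolynomial.homogeneousComponent n j := by
    rw [← map_sum, ← map_add, hpj, MvPolynomial.homogeneousComponent_of_mem hf, if_pos rfl]
  have hj' : MvPolynomial.eval t (MvPolynomial.homogeneousComponent n j) ∈ J ^ (n + 1) := by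
    rw [pow_succ']
    refine eval_mem_of_isHomogeneous t ht
      (MvPolynomial.homogeneousComponent_isHomogeneous _ _) fun d => ?_
    rw [MvPolynomial.coeff_homogeneousComponent]
    split_ifs
    · exact MvPolynomial.mem_map_C_iff.1 hj d
    · exact zero_mem _
  refine ⟨fun g => if deg g ≤ n then
    MvPolynomial.eval t (MvPolynomial.homogeneousComponent (n - deg g) (h g)) else 0,
    fun g => ?_, ?_⟩
  · dsimp only
    split_ifs with hg
    · exact heval g
    · exact zero_mem _
  rw [hfeq, map_add, map_sum, add_sub_right_comm, ← Finset.sum_sub_distrib]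
  refine add_mem (sum_mem fun g _ => ?_) hj'
  rw [hcomp g]
  dsimp only
  split_ifs with hg
  · rw [map_mul, ← mul_sub]
    have h2 := Ideal.mul_mem_mul (heval g) (hfa g)
    rwa [← pow_add, show n - deg g + (deg g + 1) = n + 1 by omega] at h2
  · simp

/-- A ring complete for the adic topology of a finitely generated ideal, with Noetherian
quotient by that ideal, is Noetherian. -/
theorem isNoetherianRing_of_isAdicComplete {J : Ideal A} [IsAdicComplete J A] (hJ : J.FG)
    [IsNoetherianRing (A ⧸ J)] : IsNoetherianRing A := by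
  classical
  refine isNoetherianRing_iff_ideal_fg A |>.2 fun 𝔞 => ?_
  obtain ⟨r, t, hrange⟩ := Submodule.fg_iff_exists_fin_generating_family.1 hJ
  have hJt : J = Ideal.span (Set.range t) := hrange.symm
  have ht : ∀ i, t i ∈ J := fun i => hJt ▸ Ideal.subset_span ⟨i, rfl⟩
  let G : Set (MvPolynomial (Fin r) A) := {f | ∃ n, f.IsHomogeneous n ∧
    ∃ a ∈ 𝔞, MvPolynomial.eval t f - a ∈ J ^ (n + 1)}
  let JP : Ideal (MvPolynomial (Fin r) A) := J.map MvPolynomial.C
  have : IsNoetherianRing (MvPolynomial (Fin r) A ⧸ JP) :=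
    isNoetherianRing_of_ringEquiv _
      (MvPolynomial.quotientEquivQuotientMvPolynomial (σ := Fin r) J).toRingEquiv
  obtain ⟨s', hs'sub, hs'⟩ :=
    (Submodule.fg_span_iff_fg_span_finset_subset (R := MvPolynomial (Fin r) A ⧸ JP)
      (Ideal.Quotient.mk JP '' G)).1
      (IsNoetherian.noetherian _)
  obtain ⟨G', hG'sub, rfl⟩ := Finset.subset_set_image_iff.1 hs'sub
  have hG : G ⊆ (Ideal.span (G' : Set (MvPolynomial (Fin r) A)) ⊔ JP :
      Ideal (MvPolynomial (Fin r) A)) := by
    intro f hf
    have h2 : Ideal.Quotient.mk JP f ∈ Ideal.span (Ideal.Quotient.mk JP '' (G' : Set _)) := by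
      rw [← Finset.coe_image, Ideal.span, ← hs']
      exact Submodule.subset_span ⟨f, hf, rfl⟩
    rw [← Ideal.map_span] at h2
    have h3 : f ∈ Ideal.comap (Ideal.Quotient.mk JP)
        (Ideal.map (Ideal.Quotient.mk JP) (Ideal.span (G' : Set _))) := h2
    rwa [Ideal.comap_map_of_surjective' _ Ideal.Quotient.mk_surjective, Ideal.mk_ker] at h3
  choose deg hdeg a ha hfa using fun g : G' => hG'sub g.2
  have step := exists_step t hJt ht (fun g : G' => (g : MvPolynomial (Fin r) A)) deg hdeg a hfa 𝔞
    (fun n f hf hfa' => by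
      have := hG ⟨n, hf, _, hfa', by simp⟩
      rwa [← Subtype.range_coe (s := (G' : Set (MvPolynomial (Fin r) A)))] at this)
  refine ⟨Finset.univ.image a, le_antisymm ?_ fun x hx => ?_⟩
  · rw [Ideal.span_le, Finset.coe_image]
    rintro _ ⟨g, -, rfl⟩
    exact ha g
  rw [Finset.coe_image, Finset.coe_univ, Set.image_univ]
  choose c hc hc' using step
  let d : ∀ k, {y : A // y ∈ 𝔞 ∧ y ∈ J ^ k} := fun k =>
    Nat.rec (motive := fun k => {y : A // y ∈ 𝔞 ∧ y ∈ J ^ k}) ⟨x, hx, by simp⟩
      (fun k y => ⟨_, sub_mem y.2.1 (sum_mem fun g _ => 𝔞.mul_mem_left _ (ha g)),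
        hc' k y.1 y.2.1 y.2.2⟩) k
  let e : G' → ℕ → A := fun g k => c k (d k).1 (d k).2.1 (d k).2.2 g
  have hd : ∀ k, (d k).1 = x - ∑ j ∈ Finset.range k, ∑ g, e g j * a g := by
    intro k
    induction k with
    | zero => simp [d]
    | succ k ih =>
      rw [Finset.sum_range_succ, ← sub_sub, ← ih]
  choose y hy using fun g : G' => exists_series_limit (fun k => e g (k + deg g))
    (fun k => by simpa using hc (k + deg g) _ _ _ g)
  let S : G' → A := fun g => y g + ∑ k ∈ Finset.range (deg g), e g k
  have hS : ∀ g K, S g - ∑ k ∈ Finset.range (K + deg g), e g k ∈ J ^ K := by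
    intro g K
    have := hy g K
    rw [add_comm K, Finset.sum_range_add]
    simp only [S]
    simpa [add_comm (deg g), add_comm (y g), add_sub_add_left_eq_sub] using this
  rw [Ideal.mem_span_range_iff_exists_fun]
  refine ⟨S, ?_⟩
  rw [← sub_eq_zero]
  refine IsHausdorff.haus inferInstance (I := J) _ fun K => ?_
  rw [SModEq.zero, smul_eq_mul, Ideal.mul_top]
  set D := Finset.univ.sup deg with hD
  have h1 : x - ∑ g, (∑ k ∈ Finset.range (K + D), e g k) * a g ∈ J ^ K := by
    rw [show x - ∑ g, (∑ k ∈ Finset.range (K + D), e g k) * a g = (d (K + D)).1 by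
      rw [hd, Finset.sum_comm]; simp [Finset.sum_mul]]
    exact Ideal.pow_le_pow_right (Nat.le_add_right K D) (d (K + D)).2.2
  have h2 : ∀ g, S g - ∑ k ∈ Finset.range (K + D), e g k ∈ J ^ K := by
    intro g
    have hle : deg g ≤ D := Finset.le_sup (Finset.mem_univ g)
    have := hS g (K + D - deg g)
    rw [show K + D - deg g + deg g = K + D by omega] at this
    exact Ideal.pow_le_pow_right (by omega) this
  have h3 : ∑ g, S g * a g - x = ∑ g, (S g - ∑ k ∈ Finset.range (K + D), e g k) * a g
      - (x - ∑ g, (∑ k ∈ Finset.range (K + D), e g k) * a g) := by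
    simp only [sub_mul, Finset.sum_sub_distrib]
    ring
  rw [h3]
  exact sub_mem (sum_mem fun g _ => Ideal.mul_mem_right _ _ (h2 g)) h1

/-- If `A ⧸ J ^ 2` is Noetherian and `A` is `J`-adically complete, then `J` is finitely
generated. -/
theorem fg_of_isNoetherianRing_quotient_sq (J : Ideal A) [IsAdicComplete J A]
    [IsNoetherianRing (A ⧸ J ^ 2)] : J.FG := by
  classical
  let q := Ideal.Quotient.mk (J ^ 2)
  obtain ⟨s, hs⟩ := (isNoetherianRing_iff_ideal_fg _).1 inferInstance (J.map q)
  choose l hl using Ideal.Quotient.mk_surjective (I := J ^ 2)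
  let T : Ideal A := Ideal.span ((s.image l : Finset _) : Set A)
  have hT : T.map q = J.map q := by
    simp only [T, Ideal.map_span, Finset.coe_image, ← Set.image_comp]
    rw [show q ∘ l = id from funext hl, Set.image_id]
    exact hs
  have hmk : ∀ I : Ideal A, (I.map q).comap q = I ⊔ J ^ 2 := fun I => by
    rw [Ideal.comap_map_of_surjective' _ Ideal.Quotient.mk_surjective, Ideal.mk_ker]
  have h2 : J ⊔ J ^ 2 = T ⊔ J ^ 2 := by rw [← hmk, ← hmk, hT]
  have hsq : J ^ 2 ≤ J := Ideal.pow_le_self two_ne_zero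
  rw [sup_eq_left.2 hsq] at h2
  have hTJ : T ≤ J := h2 ▸ le_sup_left
  have step : ∀ k, J ^ k ≤ T ^ k ⊔ J ^ (k + 1) := by
    intro k
    induction k with
    | zero => simp
    | succ k ih =>
      calc J ^ (k + 1) = J ^ k * J := pow_succ _ _
        _ ≤ (T ^ k ⊔ J ^ (k + 1)) * J := Ideal.mul_mono ih le_rfl
        _ = T ^ k * J ⊔ J ^ (k + 1 + 1) := by rw [Ideal.sup_mul, ← pow_succ]
        _ ≤ T ^ (k + 1) ⊔ J ^ (k + 1 + 1) := by
          refine sup_le ?_ le_sup_right
          conv_lhs => rw [h2]
          rw [Ideal.mul_sup, ← pow_succ]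
          refine sup_le le_sup_left (le_sup_of_le_right ?_)
          rw [show k + 1 + 1 = k + 2 from rfl, pow_add J]
          exact Ideal.mul_mono (Ideal.pow_right_mono hTJ k) le_rfl
  have hF : IsStepFiltration T (fun k => J ^ k) :=
    { zero := by simp
      anti := fun m n h => Ideal.pow_le_pow_right h
      pow_le := fun k => by
        rw [smul_eq_mul, Ideal.mul_top]; exact Ideal.pow_right_mono hTJ k
      step := fun k => by rw [smul_eq_mul, Ideal.mul_top]; exact step k
      separated := fun x hx => IsHausdorff.haus (I := J) inferInstance x fun n => by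
        rw [SModEq.zero, smul_eq_mul, Ideal.mul_top]; exact hx n
      series := exists_series_limit }
  have hTfg : T.FG := ⟨_, rfl⟩
  have := hF.eq_pow_smul_of_fg hTfg 1
  simp only [pow_one, smul_eq_mul, Ideal.mul_top] at this
  exact this ▸ hTfg

/-- A finite module over a Noetherian adically complete ring is adically complete. -/
theorem isAdicComplete_of_finite [IsNoetherianRing A] (J : Ideal A) [IsAdicComplete J A]
    (M : Type v) [AddCommGroup M] [Module A M] [Module.Finite A M] : IsAdicComplete J M := by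
  obtain ⟨r, φ, hφ⟩ := Module.Finite.exists_fin' A M
  have hmap : ∀ k, J ^ k • (⊤ : Submodule A M) = (J ^ k • (⊤ : Submodule A (Fin r → A))).map φ :=
    fun k => by rw [Submodule.map_smul'', Submodule.map_top, LinearMap.range_eq_top.2 hφ]
  have hF : IsStepFiltration J (fun k => J ^ k • (⊤ : Submodule A M)) :=
    { zero := by simp
      anti := fun m n h => Submodule.smul_mono (Ideal.pow_le_pow_right h) le_rfl
      pow_le := fun k => le_rfl
      step := fun k => le_sup_left
      separated := fun x hx => by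
        have h := Ideal.iInf_pow_smul_eq_bot_of_le_jacobson (M := M) J
          (IsAdicComplete.le_jacobson_bot J)
        rw [← Submodule.mem_bot A, ← h, Submodule.mem_iInf]
        exact hx
      series := fun s hs => by
        have hs' : ∀ k, ∃ c : Fin r → A,
            c ∈ J ^ k • (⊤ : Submodule A (Fin r → A)) ∧ φ c = s k := by
          intro k
          have := hs k
          rw [hmap] at this
          exact this
        choose c hc hcs using hs'
        choose y hy using fun i => exists_series_limit (fun k => c k i)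
          (fun k => apply_mem_of_mem_smul_top (hc k) i)
        refine ⟨φ y, fun K => ?_⟩
        rw [hmap]
        refine ⟨y - ∑ k ∈ Finset.range K, c k, mem_smul_top_of_apply fun i => ?_, ?_⟩
        · simpa [Finset.sum_apply] using hy i K
        · simp [hcs] }
  exact hF.isAdicComplete fun n => rfl

end Groth.Agent.AdicLim
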